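import Groth.Agent.L20.ThickAffine
import Mathlib.AlgebraicGeometry.IdealSheaf.Subscheme

/-! Nilpotent closed immersions: surjectivity, and affineness of preimages. -/

set_option autoImplicit false
universe u
open CategoryTheory AlgebraicGeometry TopologicalSpace

namespace Groth.L07.NilPush

variable {T Tc U : Scheme.{u}}

theorem surjective_of_ker_pow_eq_bot (i : T ⟶ Tc) [IsClosedImmersion i]
    (hnil : ∃ n : ℕ, ∀ V : Tc.affineOpens, i.ker.ideal V ^ n = ⊥) : Function.Surjective i.base := by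
  intro x
  have hx : x ∈ i.ker.support := by
    rw [Scheme.IdealSheafData.mem_support_iff]
    intro V
    rw [Scheme.mem_zeroLocus_iff]
    intro f hf hxf
    obtain ⟨n, hn⟩ := hnil
    have hf0 : f ^ n = 0 := (Ideal.mem_bot).mp (hn V ▸ Ideal.pow_mem_pow hf n)
    have : Tc.basicOpen f ≤ ⊥ := by
      rw [(Scheme.basicOpen_eq_bot_iff_forall_evaluation_eq_zero Tc f).mpr]
      intro y
      exact (IsNilpotent.map ⟨n, hf0⟩ (Tc.evaluation V.1 y.1 y.2).hom).eq_zero
    exact this hxf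
  rw [← SetLike.mem_coe, Scheme.Hom.support_ker, i.isClosedEmbedding.isClosed_range.closure_eq] at hx
  exact hx

theorem isAffineOpen_map (i : T ⟶ Tc) [IsClosedImmersion i]
    (hnil : ∃ n : ℕ, ∀ V : Tc.affineOpens, i.ker.ideal V ^ n = ⊥)
    (u : T ⟶ U) [IsAffineHom u] (g : Tc.carrier ⟶ U.carrier) (hg : i.base ≫ g = u.base)
    {V : U.Opens} (hV : IsAffineOpen V) : IsAffineOpen (X := Tc) ((Opens.map g).obj V) := by
  let W : Tc.Opens := (Opens.map g).obj V
  have hW : i ⁻¹ᵁ W = u ⁻¹ᵁ V := by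
    ext x
    change g (i.base x) ∈ V ↔ u.base x ∈ V
    rw [← hg]
    rfl
  haveI : IsAffine (i ⁻¹ᵁ W : T.Opens).toScheme := hW ▸ hV.preimage u
  refine Groth.L20.ThickAffine.isAffine_of_surjective (i ∣_ W) fun y => ?_
  obtain ⟨x, hx⟩ := surjective_of_ker_pow_eq_bot i hnil y.1
  have hxW : x ∈ i ⁻¹ᵁ W := by
    change i.base x ∈ W
    rw [hx]; exact y.2
  refine ⟨⟨x, hxW⟩, Subtype.ext ?_⟩
  exact (morphismRestrict_base_coe i W ⟨x, hxW⟩).trans hx

end Groth.L07.NilPush
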